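import Groth.Agent.WeilExtLib.Codim
import Groth.Agent.DvrProperLib.Closure
import Groth.Agent.MinModLib.Seq
import Groth.Agent.RelMinSmLib.Main
import Groth.Agent.DevissLib.Basic

/-!
# Rational maps from arithmetic surfaces extend after blowing up points
-/

set_option autoImplicit false
set_option linter.style.haveILetI false
set_option linter.unusedSectionVars false
set_option maxHeartbeats 2000000
set_option backward.isDefEq.respectTransparency false
set_option backward.isDefEq.respectTransparency.types false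
universe u

open CategoryTheory CategoryTheory.Limits AlgebraicGeometry TopologicalSpace Topology IsLocalRing

noncomputable section

namespace PointExtLib

/-- The property asserted by S7320 at a given scheme. -/
def Dominated (X : Scheme.{u}) : Prop :=
  ∀ (T : Set X) (_ : T.Finite) (hTc : IsClosed T),
    (∀ x ∈ T, IsClosed ({x} : Set X) ∧ IsRegularLocalRing (X.presheaf.stalk x) ∧ ringKrullDim (X.presheaf.stalk x) = 2) →
    ∀ {Y : Scheme.{u}} (f : Y ⟶ X) [IsProper f], IsIso (f ∣_ (⟨Tᶜ, hTc.isOpen_compl⟩ : X.Opens)) →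
    ∃ (X' : Scheme.{u}) (g : X' ⟶ X), Models.IsContractionSeq g ∧
      IsIso (g ∣_ (⟨Tᶜ, hTc.isOpen_compl⟩ : X.Opens)) ∧ ∃ h : X' ⟶ Y, h ≫ f = g

/-- The closure of the graph of a morphism on an open. -/
theorem exists_graphClosure {X Z S : Scheme.{u}} (p : X ⟶ S) (q : Z ⟶ S) [IsProper q] (U : X.Opens)
    [IsReduced (U : Scheme.{u})] (φ : (U : Scheme.{u}) ⟶ Z) (hφ : φ ≫ q = U.ι ≫ p) :
    ∃ (Γ : Scheme.{u}) (f : Γ ⟶ X) (g : Γ ⟶ Z), IsProper f ∧ IsIso (f ∣_ U) ∧ g ≫ q = f ≫ p ∧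
      (f ⁻¹ᵁ U).ι ≫ g = (f ∣_ U) ≫ φ := by
  let γ : (U : Scheme.{u}) ⟶ pullback p q := pullback.lift U.ι φ hφ.symm
  let C : Closeds ↥(pullback p q) := ⟨closure (Set.range γ), isClosed_closure⟩
  let J := Scheme.IdealSheafData.vanishingIdeal C
  haveI : IsReduced J.subscheme := DevissLib.isReduced_vanishingIdeal' C
  let ι : J.subscheme ⟶ pullback p q := J.subschemeι
  have hι : Set.range ι = closure (Set.range γ) := by
    show Set.range J.subschemeι = _
    rw [Scheme.IdealSheafData.range_subschemeι, Scheme.IdealSheafData.coe_support_vanishingIdeal]; rfl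
  let f : J.subscheme ⟶ X := ι ≫ pullback.fst p q
  haveI : IsProper f := inferInstance
  -- over `U` the closure is the graph
  let V : (pullback p q).Opens := pullback.fst p q ⁻¹ᵁ U
  have hγV : Set.range γ ⊆ Set.range V.ι := by
    rintro _ ⟨u, rfl⟩
    rw [Scheme.Opens.range_ι]
    show pullback.fst p q (γ u) ∈ U
    rw [← Scheme.Hom.comp_apply, pullback.lift_fst]
    exact u.2
  let γ' : (U : Scheme.{u}) ⟶ (V : Scheme.{u}) := IsOpenImmersion.lift V.ι γ hγV
  have hγ' : γ' ≫ V.ι = γ := IsOpenImmersion.lift_fac _ _ _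
  have hsec : γ' ≫ (pullback.fst p q ∣_ U) = 𝟙 _ := by
    rw [← cancel_mono U.ι, Category.assoc, morphismRestrict_ι, ← Category.assoc, hγ', pullback.lift_fst,
      Category.id_comp]
  haveI : IsClosedImmersion γ' := by
    haveI : IsClosedImmersion (γ' ≫ (pullback.fst p q ∣_ U)) := by rw [hsec]; infer_instance
    exact IsClosedImmersion.of_comp γ' (pullback.fst p q ∣_ U)
  have hin : ∀ z, z ∈ closure (Set.range γ) → pullback.fst p q z ∈ U → z ∈ Set.range γ := by
    intro z hz hzU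
    obtain ⟨v, rfl⟩ : z ∈ Set.range V.ι := by rw [Scheme.Opens.range_ι]; exact hzU
    have h1 : v ∈ closure (Set.range γ') := by
      rw [V.ι.isOpenEmbedding.isEmbedding.closure_eq_preimage_closure_image, Set.mem_preimage,
        ← Set.range_comp, ← TopCat.coe_comp, ← Scheme.Hom.comp_base, hγ']
      exact hz
    rw [γ'.isClosedEmbedding.isClosed_range.closure_eq] at h1
    obtain ⟨u, rfl⟩ := h1
    exact ⟨u, by rw [← hγ']; rfl⟩
  have hsub : Set.range γ ⊆ Set.range ι := hι ▸ subset_closure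
  let α : (U : Scheme.{u}) ⟶ J.subscheme :=
    IsClosedImmersion.lift J.subschemeι γ (DvrProperLib.ker_le_ker_of_range_subset _ _ hsub)
  have hα : α ≫ ι = γ := IsClosedImmersion.lift_fac _ _ _
  have hαU : Set.range α ⊆ Set.range (f ⁻¹ᵁ U).ι := by
    rintro _ ⟨u, rfl⟩
    rw [Scheme.Opens.range_ι]
    show pullback.fst p q (ι (α u)) ∈ U
    rw [← Scheme.Hom.comp_apply α, hα, ← Scheme.Hom.comp_apply, pullback.lift_fst]
    exact u.2
  let α' : (U : Scheme.{u}) ⟶ (f ⁻¹ᵁ U : Scheme.{u}) := IsOpenImmersion.lift (f ⁻¹ᵁ U).ι α hαU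
  have hα' : α' ≫ (f ⁻¹ᵁ U).ι = α := IsOpenImmersion.lift_fac _ _ _
  haveI : IsReduced (f ⁻¹ᵁ U : Scheme.{u}) := inferInstance
  let β : (f ⁻¹ᵁ U : Scheme.{u}) ⟶ pullback p q := (f ⁻¹ᵁ U).ι ≫ ι
  have hβV : Set.range β ⊆ Set.range V.ι := by
    rintro _ ⟨x, rfl⟩
    rw [Scheme.Opens.range_ι]
    exact x.2
  let β' : (f ⁻¹ᵁ U : Scheme.{u}) ⟶ (V : Scheme.{u}) := IsOpenImmersion.lift V.ι β hβV
  have hβ' : β' ≫ V.ι = β := IsOpenImmersion.lift_fac _ _ _
  have hβγ : Set.range β' ⊆ Set.range γ' := by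
    rintro _ ⟨x, rfl⟩
    obtain ⟨u, hu⟩ := hin (β x) (hι.le ⟨_, rfl⟩) x.2
    refine ⟨u, V.ι.isOpenEmbedding.injective ?_⟩
    rw [← Scheme.Hom.comp_apply, hγ', ← Scheme.Hom.comp_apply, hβ']
    exact hu
  let r : (f ⁻¹ᵁ U : Scheme.{u}) ⟶ (U : Scheme.{u}) :=
    IsClosedImmersion.lift γ' β' (DvrProperLib.ker_le_ker_of_range_subset _ _ hβγ)
  have hr : r ≫ γ = β := by rw [← hγ', ← Category.assoc, IsClosedImmersion.lift_fac, hβ']
  have hrf : r = f ∣_ U := by
    rw [← cancel_mono U.ι, morphismRestrict_ι, ← pullback.lift_fst U.ι φ hφ.symm, ← Category.assoc, hr]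
    rfl
  haveI : IsIso (f ∣_ U) := by
    refine ⟨α', ?_, ?_⟩
    · rw [← cancel_mono ((f ⁻¹ᵁ U).ι ≫ ι), Category.assoc, ← Category.assoc α', hα', hα, Category.id_comp, ← hrf, hr]
    · rw [← cancel_mono U.ι, Category.assoc, morphismRestrict_ι, ← Category.assoc, hα', Category.id_comp]
      show α ≫ ι ≫ pullback.fst p q = U.ι
      rw [← Category.assoc, hα, pullback.lift_fst]
  refine ⟨J.subscheme, f, ι ≫ pullback.snd p q, ‹IsProper f›, ‹IsIso (f ∣_ U)›, ?_, ?_⟩
  · show (ι ≫ pullback.snd p q) ≫ q = (ι ≫ pullback.fst p q) ≫ p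
    rw [Category.assoc, Category.assoc, pullback.condition]
  · rw [← Category.assoc, show (f ⁻¹ᵁ U).ι ≫ ι = (f ∣_ U) ≫ γ by rw [← hrf, hr], Category.assoc, pullback.lift_snd]

variable {R : Type u} [CommRing R] [IsDomain R] [IsDiscreteValuationRing R]

/-- Points of dimension two of an arithmetic surface are closed. -/
theorem isClosed_of_two_le {X : Over (Spec (CommRingCat.of R))} (hX : ArSurf.IsArithSurface R X) (x : X.left)
    (h : ¬ ringKrullDim (X.left.presheaf.stalk x) ≤ 1) :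
    IsClosed ({x} : Set X.left) ∧ ringKrullDim (X.left.presheaf.stalk x) = 2 := by
  have hle : ringKrullDim (X.left.presheaf.stalk x) ≤ 2 := (DimIneqLib.stalk_dim_le_dim x).trans hX.2.2.1.le
  refine ⟨?_, le_antisymm hle (WeilExtLib.two_le_of_not_le_one h)⟩
  refine closure_subset_iff_isClosed.1 fun x' hx' => ?_
  by_contra hne
  have hxx' : x ⤳ x' := specializes_iff_mem_closure.2 hx'
  obtain ⟨l, hl⟩ := Order.le_krullDim_iff.1
    (show ((2 : ℕ) : WithBot ℕ∞) ≤ Order.krullDim (PrimeSpectrum (X.left.presheaf.stalk x)) from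
      WeilExtLib.two_le_of_not_le_one h)
  have hst : ∀ i j : Fin (l.length + 1), i < j →
      X.left.fromSpecStalk x (l i) ⤳ X.left.fromSpecStalk x (l j) ∧
        X.left.fromSpecStalk x (l i) ≠ X.left.fromSpecStalk x (l j) := fun i j hij =>
    ⟨((PrimeSpectrum.le_iff_specializes (l i) (l j)).1 (l.strictMono.monotone hij.le)).map
        (X.left.fromSpecStalk x).continuous,
      fun he => (l.strictMono hij).ne ((X.left.fromSpecStalk x).isEmbedding.injective he)⟩
  have hsp : ∀ i, X.left.fromSpecStalk x (l i) ⤳ x := fun i => by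
    have := Scheme.range_fromSpecStalk (x := x) (X := X.left)
    exact this.le ⟨l i, rfl⟩
  have h01 := hst ⟨0, by omega⟩ ⟨1, by omega⟩ (Fin.mk_lt_mk.2 (by omega))
  have h12 := hst ⟨1, by omega⟩ ⟨2, by omega⟩ (Fin.mk_lt_mk.2 (by omega))
  refine RelMinSmLib.not_four hX.2.2.1.le h01.1 h12.1 ((hsp _).trans hxx') h01.2 h12.2 fun he => hne ?_
  exact (hxx'.antisymm (he ▸ hsp ⟨2, by omega⟩)).eq.symm

/-- Rational maps from an arithmetic surface extend after blowing up points. -/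
theorem exists_extend {X : Over (Spec (CommRingCat.of R))} (hX : ArSurf.IsArithSurface R X)
    (H : Dominated X.left)
    (Z : Over (Spec (CommRingCat.of R))) [IsProper Z.hom] (U : X.left.Opens) (hU : (U : Set X.left).Nonempty)
    (φ : (U : Scheme.{u}) ⟶ Z.left) (hφ : φ ≫ Z.hom = U.ι ≫ X.hom) :
    ∃ (X' : Scheme.{u}) (f : X' ⟶ X.left) (g : X' ⟶ Z.left),
      Models.IsContractionSeq f ∧ g ≫ Z.hom = f ≫ X.hom ∧ (f ⁻¹ᵁ U).ι ≫ g = (f ∣_ U) ≫ φ := by
  obtain ⟨hXi, hXp, hXn⟩ := PtBlowFactLib.surf_instances hX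
  haveI := hXi; haveI := hXp; haveI := hXn
  obtain ⟨U', hUU', φ', hφ', hres, hcodim⟩ := WeilExtLib.exists_extend_proper Z.hom X.hom
    (fun y _ => hX.1 y) U (U.2.dense hU) φ hφ
  let T : Set X.left := (U' : Set X.left)ᶜ
  have hTc : IsClosed T := U'.2.isClosed_compl
  have hT : ∀ x ∈ T, IsClosed ({x} : Set X.left) ∧ IsRegularLocalRing (X.left.presheaf.stalk x) ∧
      ringKrullDim (X.left.presheaf.stalk x) = 2 := fun x hx => by
    obtain ⟨h1, h2⟩ := isClosed_of_two_le hX x fun h => hx (hcodim x h)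
    exact ⟨h1, hX.1 x, h2⟩
  have hTf : T.Finite := by
    obtain ⟨S, hSf, hSc, hSi, hS⟩ := NoetherianSpace.exists_finite_set_isClosed_irreducible hTc
    rw [hS]
    refine hSf.sUnion fun Z hZ => Set.Subsingleton.finite ?_
    obtain ⟨e, he⟩ := QuasiSober.sober (hSi Z hZ) (hSc Z hZ)
    have heT : e ∈ T := hS ▸ Set.mem_sUnion_of_mem he.mem hZ
    rw [← he.def, (hT e heT).1.closure_eq]
    exact Set.subsingleton_singleton
  have hTU : (⟨Tᶜ, hTc.isOpen_compl⟩ : X.left.Opens) = U' := Opens.ext (compl_compl _)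
  obtain ⟨Γ, f, gZ, hfp, hfi, hw, hag⟩ := exists_graphClosure X.hom Z.hom U' φ' hφ'
  haveI := hfp
  obtain ⟨X', g, hg, -, h, hh⟩ := H T hTf hTc hT f (by rw [hTU]; exact hfi)
  refine ⟨X', g, h ≫ gZ, hg, ?_, ?_⟩
  · rw [Category.assoc, hw, ← Category.assoc, hh]
  · have hhU : Set.range ((g ⁻¹ᵁ U).ι ≫ h) ⊆ Set.range (f ⁻¹ᵁ U').ι := by
      rintro _ ⟨x, rfl⟩
      rw [Scheme.Opens.range_ι]
      show f (h x.1) ∈ U'
      rw [← Scheme.Hom.comp_apply, hh]
      exact hUU' x.2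
    let k := IsOpenImmersion.lift (f ⁻¹ᵁ U').ι ((g ⁻¹ᵁ U).ι ≫ h) hhU
    have hk : k ≫ (f ⁻¹ᵁ U').ι = (g ⁻¹ᵁ U).ι ≫ h := IsOpenImmersion.lift_fac _ _ _
    have hkU : k ≫ (f ∣_ U') = (g ∣_ U) ≫ X.left.homOfLE hUU' := by
      rw [← cancel_mono U'.ι, Category.assoc, morphismRestrict_ι, ← Category.assoc, hk, Category.assoc, hh,
        Category.assoc, Scheme.homOfLE_ι, morphismRestrict_ι]
    rw [← Category.assoc, ← hk, Category.assoc, hag, ← Category.assoc, hkU, Category.assoc, hres]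

end PointExtLib
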